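import Groth.Agent.Lib.AbSchRigid22.Basic

/-!
# Homomorphisms from abelian schemes to affine groups are trivial
-/

universe u

open CategoryTheory Limits AlgebraicGeometry MonoidalCategory CartesianMonoidalCategory MonObj
open scoped GrpObj

set_option backward.isDefEq.respectTransparency false
set_option linter.style.haveILetI false

namespace Groth.Agent.HomAffine22

/-- A morphism from an abelian scheme to an affine scheme is constant. -/
theorem exists_const {S : Scheme.{u}} (A Z : Over S) [GrpObj A] [Smooth A.hom] [IsProper A.hom]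
    (hA : ∀ s : S, ConnectedSpace ↥(A.hom.fiber s)) [IsAffineHom Z.hom] (f : A ⟶ Z) :
    ∃ r : 𝟙_ (Over S) ⟶ Z, f = toUnit A ≫ r := by
  haveI := AbSchRigid22.geometricallyConnected_of_grpObj A hA
  haveI := AbRigid.geometricallyReduced_of_smooth A.hom
  refine RigidRel.exists_eq_toUnit_comp A Z f fun s => ?_
  obtain ⟨U, hU, hsU, -⟩ := exists_isAffineOpen_mem_and_subset (X := S) (x := s) (U := ⊤) trivial
  have h0 := RigidRel.h0_of_geometrically A.hom
  let V : Z.left.Opens := Z.hom ⁻¹ᵁ U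
  haveI : IsAffine V.toScheme := hU.preimage Z.hom
  have hsub : Set.range ((A.hom ⁻¹ᵁ U).ι ≫ f.left) ⊆ Set.range V.ι := by
    rintro _ ⟨w, rfl⟩
    rw [Scheme.Opens.range_ι]
    show Z.hom (f.left ((A.hom ⁻¹ᵁ U).ι w)) ∈ U
    rw [← Scheme.Hom.comp_apply, Over.w f]
    exact w.2
  haveI : IsIso (A.hom ∣_ U).appTop := by
    haveI : IsIso (A.hom.app (U.ι ''ᵁ ⊤)) := by
      rw [ConcreteCategory.isIso_iff_bijective]
      exact h0 _ (by rwa [Scheme.Opens.ι_image_top])
    rw [morphismRestrict_appTop]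
    infer_instance
  obtain ⟨r, hr⟩ := RigidRel.exists_factor_of_isAffine (A.hom ∣_ U) (IsOpenImmersion.lift V.ι ((A.hom ⁻¹ᵁ U).ι ≫ f.left) hsub)
  exact RigidRel.mem_collapsed_of_factor A.hom f.left (r ≫ V.ι)
    (by rw [← Category.assoc, hr, IsOpenImmersion.lift_fac]) s hsU

/-- A homomorphism from an abelian scheme to an affine group scheme is trivial. -/
theorem eq_one_of_isAffineHom {S : Scheme.{u}} (A G : Over S) [GrpObj A] [Smooth A.hom] [IsProper A.hom]
    (hA : ∀ s : S, ConnectedSpace ↥(A.hom.fiber s)) [GrpObj G] [IsAffineHom G.hom] (f : A ⟶ G) [IsMonHom f] :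
    f = 1 := by
  obtain ⟨r, hr⟩ := exists_const A G hA f
  have h1 : η[A] ≫ f = η[G] := IsMonHom.one_hom f
  rw [hr, ← Category.assoc, toUnit_unique (η[A] ≫ toUnit A) (𝟙 _), Category.id_comp] at h1
  rw [hr, h1, Hom.one_def]

end Groth.Agent.HomAffine22
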