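import Groth.Prelude.Def_CGrpSh2
import Groth.Agent.Lib.TorusHom19.Basic
import Groth.Agent.Lib.MTRigid29.NormalCentral
import Groth.Agent.Lib.HomAffine22.Basic

/-!
# Vanishing of internal Hom sheaves from pointwise vanishing; behaviour in short exact sequences
-/

universe u

open CategoryTheory CategoryTheory.Limits MonoidalCategory CartesianMonoidalCategory MonObj AlgebraicGeometry

set_option linter.style.haveILetI false
set_option backward.isDefEq.respectTransparency.types false

namespace Groth.Agent.HomAffine22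

open DiagGL

/-- The internal Hom of sheaves of points vanishes if all homomorphisms after base change are trivial. -/
theorem hom_over_eq_zero {S : Scheme.{u}} (P Q : Over S) [GrpObj P] [IsCommMonObj P] [GrpObj Q] [IsCommMonObj Q]
    (H : ∀ (X : Over S) (g : Red.bc X.hom P ⟶ Red.bc X.hom Q), IsMonHom g → g = 1) (X : Over S)
    (φ' : (CGrpSh.pts Scheme.fppfPrecoverage P).over X ⟶ (CGrpSh.pts Scheme.fppfPrecoverage Q).over X) :
    φ' = 0 := by
  let ψ : ∀ U : Over X, (U.left ⟶ P) → (U.left ⟶ Q) := fun U x =>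
    (φ'.hom.app (Opposite.op U) ⟨Additive.ofMul x⟩).down.toMul
  have nat : ∀ {U U' : Over X} (h : U' ⟶ U) (x : U.left ⟶ P), ψ U' (h.left ≫ x) = h.left ≫ ψ U x := fun h x =>
    congrArg (fun z : (CGrpSh.pts Scheme.fppfPrecoverage Q).obj.obj (Opposite.op _) => z.down.toMul)
      (ConcreteCategory.congr_hom (φ'.hom.naturality h.op) ⟨Additive.ofMul x⟩)
  have hmul : ∀ (U : Over X) (x y : U.left ⟶ P), ψ U (x * y) = ψ U x * ψ U y := fun U x y =>
    congrArg (fun z : (CGrpSh.pts Scheme.fppfPrecoverage Q).obj.obj (Opposite.op _) => z.down.toMul)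
      ((φ'.hom.app (Opposite.op U)).hom.map_add ⟨Additive.ofMul x⟩ ⟨Additive.ofMul y⟩)
  let u : Over X.left → Over X := fun Z => Over.mk (Over.homMk Z.hom rfl : (Over.map X.hom).obj Z ⟶ X)
  obtain ⟨g, hg⟩ := fl_surjective X.hom Q (ψ (u (Red.bc X.hom P)) (fl X.hom P (𝟙 (Red.bc X.hom P))))
  have hpt : ∀ {Z : Over X.left} (y : Z ⟶ Red.bc X.hom P), fl X.hom Q (y ≫ g) = ψ (u Z) (fl X.hom P y) := by
    intro Z y
    let h : u Z ⟶ u (Red.bc X.hom P) :=
      Over.homMk ((Over.map X.hom).map y) (Over.OverMorphism.ext (Over.w y))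
    rw [fl_comp, hg]
    refine (nat h _).symm.trans (congrArg (ψ (u Z)) ?_)
    show (Over.map X.hom).map y ≫ fl X.hom P (𝟙 (Red.bc X.hom P)) = _
    rw [← fl_comp, Category.comp_id]
  have hgm : IsMonHom g := TorsorSch25.isMonHom_of_points g fun Z x y => fl_injective X.hom Q (by
    rw [fl_mul, hpt, hpt, hpt, fl_mul, hmul])
  have hg1 : g = 1 := H X g hgm
  have hz : ∀ (U : Over X) (x : U.left ⟶ P), ψ U x = 1 := by
    intro U x
    let Z : Over X.left := Over.mk U.hom.left
    let i : U.left ≅ (Over.map X.hom).obj Z := Over.isoMk (Iso.refl _) ((Category.id_comp _).trans (Over.w U.hom))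
    let h : U ⟶ u Z := Over.homMk i.hom (Over.OverMorphism.ext (Category.id_comp _))
    obtain ⟨y, hy⟩ := fl_surjective X.hom P (i.inv ≫ x)
    have e := nat h (i.inv ≫ x)
    rw [show h.left ≫ i.inv ≫ x = x from i.hom_inv_id_assoc x, ← hy, ← hpt, hg1, MonObj.comp_one,
      MTRigid29.fl_one, MonObj.comp_one] at e
    exact e
  refine Sheaf.hom_ext (NatTrans.ext (funext fun ⟨U⟩ => AddCommGrpCat.ext fun x => ULift.ext _ _ ?_))
  obtain ⟨x⟩ := x
  exact congrArg Additive.ofMul (hz U x.toMul)

/-- No homomorphisms from a torus to an abelian scheme, over any test object. -/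
theorem hom_over_torus_proper {S : Scheme.{u}} (T A : Over S) [GrpObj T] [IsCommMonObj T] (hT : Red.IsTorus T)
    [GrpObj A] [IsCommMonObj A] [IsProper A.hom] (X : Over S)
    (φ : (CGrpSh.pts Scheme.fppfPrecoverage T).over X ⟶ (CGrpSh.pts Scheme.fppfPrecoverage A).over X) : φ = 0 :=
  hom_over_eq_zero T A (fun Y g hg => by
    haveI := hg
    haveI : IsProper (Red.bc Y.hom A).hom := inferInstanceAs (IsProper (pullback.snd A.hom Y.hom))
    exact TorusHom19.eq_one_of_isProper (TorusHom19.isTorus_bc hT Y.hom) g) X φ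

/-- No homomorphisms from an abelian scheme to a torus, over any test object. -/
theorem hom_over_abelian_torus {S : Scheme.{u}} (A T : Over S) [GrpObj A] [IsCommMonObj A] [Smooth A.hom]
    [IsProper A.hom] (hA : ∀ s : S, ConnectedSpace ↥(A.hom.fiber s))
    [GrpObj T] [IsCommMonObj T] (hT : Red.IsTorus T) (X : Over S)
    (φ : (CGrpSh.pts Scheme.fppfPrecoverage A).over X ⟶ (CGrpSh.pts Scheme.fppfPrecoverage T).over X) : φ = 0 :=
  hom_over_eq_zero A T (fun Y g hg => by
    haveI := hg
    haveI : IsProper (Red.bc Y.hom A).hom := inferInstanceAs (IsProper (pullback.snd A.hom Y.hom))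
    haveI : Smooth (Red.bc Y.hom A).hom := inferInstanceAs (Smooth (pullback.snd A.hom Y.hom))
    haveI : GeometricallyConnected A.hom := AbSchRigid22.geometricallyConnected_of_grpObj A hA
    haveI : GeometricallyConnected (Red.bc Y.hom A).hom :=
      inferInstanceAs (GeometricallyConnected (pullback.snd A.hom Y.hom))
    have hc : ∀ y : Y.left, ConnectedSpace ↥((Red.bc Y.hom A).hom.fiber y) := fun y => inferInstance
    haveI : IsAffineHom T.hom := MTRigid29.isAffineHom_of_isMultTypeFT (TorPts21.isMultTypeFT_of_isTorus hT)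
    haveI : IsAffineHom (Red.bc Y.hom T).hom :=
      MorphismProperty.pullback_snd (P := @IsAffineHom) T.hom Y.hom inferInstance
    exact eq_one_of_isAffineHom _ _ hc g) X φ

variable {C : Type (u + 1)} [Category.{u} C] {J : GrothendieckTopology C}
  [HasSheafify J AddCommGrpCat.{u + 1}] [∀ X : C, HasSheafify (J.over X) AddCommGrpCat.{u + 1}]

set_option linter.unusedSectionVars false

theorem map_shortExact (Sq : ShortComplex (Sheaf J AddCommGrpCat.{u + 1})) (h : Sq.ShortExact) (X : C) :
    (Sq.map (J.overPullback AddCommGrpCat.{u + 1} X)).ShortExact := by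
  haveI : (J.overPullback AddCommGrpCat.{u + 1} X).IsLeftAdjoint :=
    ((Over.forget X).sheafAdjunctionCocontinuous AddCommGrpCat.{u + 1} (J.over X) J).isLeftAdjoint
  exact h.map_of_exact _

/-- A morphism is an isomorphism of sheaves if it is bijective on all sections. -/
theorem isIso_of_bij {F G : Sheaf J AddCommGrpCat.{u + 1}} (f : F ⟶ G)
    (h : ∀ X : C, Function.Bijective (f.hom.app (Opposite.op X))) : IsIso f := by
  haveI : ∀ X, IsIso (f.hom.app X) := fun X => (ConcreteCategory.isIso_iff_bijective _).2 (h X.unop)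
  haveI : IsIso ((sheafToPresheaf J AddCommGrpCat.{u + 1}).map f) := NatIso.isIso_of_isIso_app f.hom
  exact isIso_of_reflects_iso f (sheafToPresheaf J AddCommGrpCat.{u + 1})

theorem mono_of_inj {F G : Sheaf J AddCommGrpCat.{u + 1}} (f : F ⟶ G)
    (h : ∀ X : C, Function.Injective (f.hom.app (Opposite.op X))) : Mono f := by
  haveI : ∀ X, Mono (f.hom.app X) := fun X => ConcreteCategory.mono_of_injective _ (h X.unop)
  haveI : Mono ((sheafToPresheaf J AddCommGrpCat.{u + 1}).map f) := NatTrans.mono_of_mono_app f.hom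
  exact (sheafToPresheaf J AddCommGrpCat.{u + 1}).mono_of_mono_map this

theorem app_left {A B M : Sheaf J AddCommGrpCat.{u + 1}} (p : A ⟶ B) (X : C) (a : B.over X ⟶ M.over X) :
    ((HomSh.homShMap J p (𝟙 M)).hom.app (Opposite.op X) a : A.over X ⟶ M.over X)
      = (J.overPullback AddCommGrpCat.{u + 1} X).map p ≫ a := by
  change (J.overPullback _ X).map p ≫ a ≫ (J.overPullback _ X).map (𝟙 M) = _
  rw [CategoryTheory.Functor.map_id]; exact congrArg (_ ≫ ·) (Category.comp_id a)

theorem app_right {A B M : Sheaf J AddCommGrpCat.{u + 1}} (i : A ⟶ B) (X : C) (a : M.over X ⟶ A.over X) :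
    ((HomSh.homShMap J (𝟙 M) i).hom.app (Opposite.op X) a : M.over X ⟶ B.over X)
      = a ≫ (J.overPullback AddCommGrpCat.{u + 1} X).map i := by
  change (J.overPullback _ X).map (𝟙 M) ≫ a ≫ (J.overPullback _ X).map i = _
  rw [CategoryTheory.Functor.map_id]; exact Category.id_comp _

variable {F₁ F₂ F₃ M : Sheaf J AddCommGrpCat.{u + 1}} {i : F₁ ⟶ F₂} {p : F₂ ⟶ F₃} {w : i ≫ p = 0}

/-- Precomposition with the quotient map is an isomorphism when there are no maps out of the subobject. -/
theorem isIso_homShMap_left (h : (ShortComplex.mk i p w).ShortExact)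
    (H : ∀ X (φ : F₁.over X ⟶ M.over X), φ = 0) : IsIso (HomSh.homShMap J p (𝟙 M)) := by
  refine isIso_of_bij _ fun X => ?_
  have hX := map_shortExact _ h X
  let P := J.overPullback AddCommGrpCat.{u + 1} X
  constructor
  · intro a b hab
    replace hab := ((app_left p X a).symm.trans hab).trans (app_left p X b)
    haveI : Epi (P.map p) := hX.epi_g
    exact (cancel_epi (P.map p)).1 hab
  · intro b
    let b' : F₂.over X ⟶ M.over X := b
    haveI : Epi ((ShortComplex.mk i p w).map P).g := hX.epi_g
    obtain ⟨a, ha⟩ := CokernelCofork.IsColimit.desc' hX.exact.gIsCokernel b' (H X (P.map i ≫ b'))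
    refine ⟨a, ?_⟩
    exact (app_left p X a).trans ha

/-- Postcomposition with the inclusion is an isomorphism when there are no maps into the quotient. -/
theorem isIso_homShMap_right (h : (ShortComplex.mk i p w).ShortExact)
    (H : ∀ X (φ : M.over X ⟶ F₃.over X), φ = 0) : IsIso (HomSh.homShMap J (𝟙 M) i) := by
  refine isIso_of_bij _ fun X => ?_
  have hX := map_shortExact _ h X
  let P := J.overPullback AddCommGrpCat.{u + 1} X
  constructor
  · intro a b hab
    replace hab := ((app_right i X a).symm.trans hab).trans (app_right i X b)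
    haveI : Mono (P.map i) := hX.mono_f
    exact (cancel_mono (P.map i)).1 hab
  · intro b
    let b' : M.over X ⟶ F₂.over X := b
    haveI : Mono ((ShortComplex.mk i p w).map P).f := hX.mono_f
    obtain ⟨a, ha⟩ := KernelFork.IsLimit.lift' hX.exact.fIsKernel b' (H X (b' ≫ P.map p))
    refine ⟨a, ?_⟩
    exact (app_right i X a).trans ha

/-- Restriction to the subobject is injective when there are no maps out of the quotient. -/
theorem mono_homShMap_left (h : (ShortComplex.mk i p w).ShortExact)
    (H : ∀ X (φ : F₃.over X ⟶ M.over X), φ = 0) : Mono (HomSh.homShMap J i (𝟙 M)) := by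
  refine mono_of_inj _ fun X => ?_
  have hX := map_shortExact _ h X
  let P := J.overPullback AddCommGrpCat.{u + 1} X
  intro a b hab
  replace hab := ((app_left i X a).symm.trans hab).trans (app_left i X b)
  let c : F₂.over X ⟶ M.over X := (a : F₂.over X ⟶ M.over X) - (b : F₂.over X ⟶ M.over X)
  haveI : Epi ((ShortComplex.mk i p w).map P).g := hX.epi_g
  have h0 : ((ShortComplex.mk i p w).map P).f ≫ c = 0 := by
    change P.map i ≫ c = 0
    exact (Preadditive.comp_sub (P.map i) _ _).trans (sub_eq_zero.2 hab)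
  obtain ⟨d, hd⟩ := CokernelCofork.IsColimit.desc' hX.exact.gIsCokernel c h0
  have h1 : c = 0 := hd.symm.trans ((congrArg (_ ≫ ·) (H X d)).trans comp_zero)
  exact sub_eq_zero.1 h1

/-- Composition to the quotient is injective when there are no maps into the subobject. -/
theorem mono_homShMap_right (h : (ShortComplex.mk i p w).ShortExact)
    (H : ∀ X (φ : M.over X ⟶ F₁.over X), φ = 0) : Mono (HomSh.homShMap J (𝟙 M) p) := by
  refine mono_of_inj _ fun X => ?_
  have hX := map_shortExact _ h X
  let P := J.overPullback AddCommGrpCat.{u + 1} X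
  intro a b hab
  replace hab := ((app_right p X a).symm.trans hab).trans (app_right p X b)
  let c : M.over X ⟶ F₂.over X := (a : M.over X ⟶ F₂.over X) - (b : M.over X ⟶ F₂.over X)
  haveI : Mono ((ShortComplex.mk i p w).map P).f := hX.mono_f
  have h0 : c ≫ ((ShortComplex.mk i p w).map P).g = 0 := by
    change c ≫ P.map p = 0
    exact (Preadditive.sub_comp _ _ (P.map p)).trans (sub_eq_zero.2 hab)
  obtain ⟨d, hd⟩ := KernelFork.IsLimit.lift' hX.exact.fIsKernel c h0
  have h1 : c = 0 := hd.symm.trans ((congrArg (· ≫ _) (H X d)).trans zero_comp)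
  exact sub_eq_zero.1 h1

end Groth.Agent.HomAffine22
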